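import Groth.Agent.GammaStar.Mod

/-!
# Killing and extending sections of a quasi-coherent module on `Proj`
-/

noncomputable section

universe u

set_option backward.isDefEq.respectTransparency false
set_option backward.isDefEq.respectTransparency.types false

open CategoryTheory AlgebraicGeometry TopologicalSpace DirectSum Opposite Groth.Agent.QCoh

namespace Groth.Agent.GammaStar

variable {R A : Type u} [CommRing R] [CommRing A] [Algebra R A] {𝒜 : ℕ → Submodule R A} [GradedAlgebra 𝒜]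
variable {C : Charts 𝒜} {F : (Proj 𝒜).Modules}

theorem le_inf_q (i j : C.ι) : (Proj 𝒜).basicOpen (C.q j i) = C.U i ⊓ C.U j := by
  ext y
  exact (mem_basicOpen_rat (C.hf j) 1 _ y).trans ⟨fun h => ⟨h.2, h.1⟩, fun h => ⟨h.2, h.1⟩⟩

theorem exists_pow_q_smul_eq_zero (hF : Coh.IsQCoh F) (i j : C.ι) (x : Γ(F, C.U j))
    (hx : rM (inf_le_right : C.U i ⊓ C.U j ≤ C.U j) x = 0) : ∃ N : ℕ, C.q j i ^ N • x = 0 := by
  refine exists_pow_smul_eq_zero hF (Proj.isAffineOpen_basicOpen 𝒜 _ (C.hf j) one_pos) (C.q j i) x ?_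
  have h : (Proj 𝒜).basicOpen (C.q j i) ≤ C.U i ⊓ C.U j := (le_inf_q i j).le
  rw [show F.presheaf.map (homOfLE ((Proj 𝒜).basicOpen_le (C.q j i))).op x =
    rM h (rM inf_le_right x) from (rM_rM _ _ _).symm, hx, rM_zero]

/-- An element of degree `n` vanishing on the chart `i` is killed by a power of `f i`. -/
theorem exists_pow_smul_eq_zero_of_cf (hF : Coh.IsQCoh F) {n : ℕ} {m : M C F} (hm : m ∈ deg C F n) (i : C.ι)
    (h : cf C F n i m = 0) : ∃ N : ℕ, (C.f i) ^ N • m = 0 := by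
  have h1 : ∀ j, ∃ N : ℕ, C.q j i ^ N • cf C F n j m = 0 := fun j => by
    refine exists_pow_q_smul_eq_zero hF i j _ ?_
    have h2 := cf_compat m n i j _ inf_le_left inf_le_right
    dsimp only at h2
    rw [h, rM_zero] at h2
    exact (isUnit_rO_rat_pow (C.hf i) (C.hf j) inf_le_left inf_le_right n).smul_eq_zero.1 h2
  choose N hN using h1
  let L := ∑ j, N j
  have hL : C.f i ^ L ∈ 𝒜 L := by simpa using SetLike.pow_mem_graded L (C.hf i)
  have hmem : C.f i ^ L • m ∈ deg C F (L + n) := SetLike.GradedSMul.smul_mem hL hm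
  refine ⟨L, eq_zero_of_mem hmem fun j => ?_⟩
  rw [show C.f i ^ L • m = ((⟨_, hL⟩ : 𝒜 L) : A) • m from rfl, cf_smul_add]
  have e : C.r j L ⟨_, hL⟩ = C.q j i ^ L := oext fun y => by
    rw [GrModX.oval_pow, HomogeneousLocalization.val_pow, oval_rat, oval_rat, Localization.mk_pow]
    congr 1
    exact Subtype.ext (by simp)
  obtain ⟨d, hd⟩ := Nat.exists_eq_add_of_le'
    (Finset.single_le_sum (f := N) (fun _ _ => Nat.zero_le _) (Finset.mem_univ j) : N j ≤ L)
  rw [e, show L = d + N j from hd, pow_add, mul_smul, hN j, smul_zero]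

/-- Every section on the chart `i` is the component of a homogeneous element. -/
theorem exists_cf_eq (hF : Coh.IsQCoh F) (i : C.ι) (t : Γ(F, C.U i)) :
    ∃ (n : ℕ) (m : M C F), m ∈ deg C F n ∧ cf C F n i m = t := by
  classical
  have h1 : ∀ j, ∃ (N : ℕ) (x : Γ(F, C.U j)), rM (inf_le_right : C.U i ⊓ C.U j ≤ C.U j) x =
      rO (inf_le_right : C.U i ⊓ C.U j ≤ C.U j) (C.q j i) ^ N • rM (inf_le_left : C.U i ⊓ C.U j ≤ C.U i) t := by
    intro j
    have key : ∀ (W : (Proj 𝒜).Opens), W = (Proj 𝒜).basicOpen (C.q j i) → ∀ (hi : W ≤ C.U i) (hj : W ≤ C.U j),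
        ∃ (N : ℕ) (x : Γ(F, C.U j)), rM hj x = rO hj (C.q j i) ^ N • rM hi t := by
      rintro _ rfl hi hj
      exact exists_pow_smul_eq_map hF (Proj.isAffineOpen_basicOpen 𝒜 _ (C.hf j) one_pos) _ _
    exact key _ (le_inf_q i j).symm _ _
  choose N x hx using h1
  let L := ∑ j, N j
  let y : ∀ j, Γ(F, C.U j) := fun j => C.q j i ^ (L - N j) • x j
  have hy : ∀ (j : C.ι) (W : (Proj 𝒜).Opens) (hi : W ≤ C.U i) (hj : W ≤ C.U j),
      rM hj (y j) = rO hj (C.q j i) ^ L • rM hi t := fun j W hi hj => by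
    have h2 := congrArg (rM (le_inf hi hj)) (hx j)
    rw [rM_smul, rM_rM, rM_rM, rO_pow, rO_rO] at h2
    have hle : N j ≤ L := Finset.single_le_sum (f := N) (fun _ _ => Nat.zero_le _) (Finset.mem_univ j)
    rw [rM_smul, show rM hj (x j) = rO hj (C.q j i) ^ N j • rM hi t from h2, rO_pow, smul_smul, ← pow_add,
      Nat.sub_add_cancel hle]
  clear_value y
  have hq : ∀ (a b c : C.ι) (W : (Proj 𝒜).Opens) (ha : W ≤ C.U a) (hb : W ≤ C.U b),
      rO ha (C.q a b) * rO hb (C.q b c) = rO ha (C.q a c) := fun a b c W ha hb => by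
    have := rat_change (C.hf a) (C.hf b) 1 ⟨C.f c, C.hf c⟩ ha hb
    rwa [pow_one] at this
  -- the defect of compatibility is killed by a power
  have h3 : ∀ p : C.ι × C.ι, ∃ K : ℕ,
      rO (inf_le_left : C.U p.1 ⊓ C.U p.2 ≤ C.U p.1) (C.q p.1 i) ^ K •
        (rO (inf_le_left : C.U p.1 ⊓ C.U p.2 ≤ C.U p.1) (C.q p.1 p.2) ^ L •
          rM (inf_le_right : C.U p.1 ⊓ C.U p.2 ≤ C.U p.2) (y p.2) -
          rM (inf_le_left : C.U p.1 ⊓ C.U p.2 ≤ C.U p.1) (y p.1)) = 0 := fun p => by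
    obtain ⟨j, k⟩ := p
    set g := rO (inf_le_left : C.U j ⊓ C.U k ≤ C.U j) (C.q j i) with hg
    have hle : (Proj 𝒜).basicOpen g ≤ C.U i ⊓ C.U j := by
      rw [hg, basicOpen_res_inf]
      exact inf_le_right.trans (le_inf_q i j).le
    have haff : IsAffineOpen (C.U j ⊓ C.U k) := by
      rw [show C.U j ⊓ C.U k = Proj.basicOpen 𝒜 (C.f j * C.f k) from (Proj.basicOpen_mul 𝒜 _ _).symm]
      exact Proj.isAffineOpen_basicOpen 𝒜 _ (SetLike.mul_mem_graded (C.hf j) (C.hf k)) two_pos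
    refine exists_pow_smul_eq_zero hF haff g _ ?_
    show rM ((Proj 𝒜).basicOpen_le g) _ = 0
    have hk : (Proj 𝒜).basicOpen g ≤ C.U k := ((Proj 𝒜).basicOpen_le g).trans inf_le_right
    have hj : (Proj 𝒜).basicOpen g ≤ C.U j := ((Proj 𝒜).basicOpen_le g).trans inf_le_left
    rw [rM_sub, rM_smul, rO_pow, rO_rO, rM_rM, rM_rM, hy k _ (hle.trans inf_le_left) hk,
      hy j _ (hle.trans inf_le_left) hj, smul_smul, ← mul_pow, hq j k i _ hj hk, sub_self]
  choose K hK using h3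
  let L' := ∑ p, K p
  have hcomp : Compat C F (L + L') fun j => C.q j i ^ L' • y j := by
    intro j k W hj hk
    obtain ⟨d, hd⟩ := Nat.exists_eq_add_of_le'
      (Finset.single_le_sum (f := K) (fun _ _ => Nat.zero_le _) (Finset.mem_univ (j, k)) : K (j, k) ≤ L')
    have h5 := congrArg (rM (le_inf hj hk)) (hK (j, k))
    simp only [rM_smul, rM_sub, rO_pow, rO_rO, rM_rM, rM_zero] at h5
    have h4 : rO hj (C.q j i) ^ L' • (rO hj (C.q j k) ^ L • rM hk (y k) - rM hj (y j)) = 0 := by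
      rw [show L' = d + K (j, k) from hd, pow_add, mul_smul, show rO hj (C.q j i) ^ K (j, k) •
        (rO hj (C.q j k) ^ L • rM hk (y k) - rM hj (y j)) = 0 from h5, smul_zero]
    rw [smul_sub, sub_eq_zero] at h4
    dsimp only
    rw [rM_smul, rM_smul, rO_pow, rO_pow, ← h4, smul_smul, smul_smul]
    congr 1
    rw [← hq j k i W hj hk, mul_pow, pow_add]
    ring
  refine ⟨L + L', mkDeg (L + L') _ hcomp, mkDeg_mem _ _ _, ?_⟩
  rw [cf_mkDeg_self]
  have h6 := hy i (C.U i) le_rfl le_rfl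
  rw [show C.q i i = 1 from rat_self (C.hf i), rO_one, one_pow, one_smul] at h6
  rw [show C.q i i = 1 from rat_self (C.hf i), one_pow, one_smul]
  rwa [rM_self, rM_self] at h6

end Groth.Agent.GammaStar
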