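import Groth.Agent.GammaStar.Rel
import Groth.Agent.QCoh.FT
import Groth.Agent.RelTildeX.SheafCrit

/-!
# A finitely generated graded module for a finite type module
-/

noncomputable section

universe u

set_option backward.isDefEq.respectTransparency false
set_option backward.isDefEq.respectTransparency.types false

open CategoryTheory AlgebraicGeometry TopologicalSpace DirectSum Opposite Groth.Agent.QCoh Groth.Agent.GrModX

namespace Groth.Agent.GammaStar

variable {R A : Type u} [CommRing R] [CommRing A] [Algebra R A] {𝒜 : ℕ → Submodule R A} [GradedAlgebra 𝒜]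
variable (C : Charts 𝒜) (F : (Proj 𝒜).Modules)

/-- A homogeneous submodule through which every chart-section is reached. -/
structure Gen where
  /-- The submodule. -/
  N : Submodule A (M C F)
  fg : N.FG
  homogeneous : ∀ m ∈ N, m ∈ ⨆ n, deg C F n ⊓ N.restrictScalars R
  reach : ∀ (n : ℕ) (m : M C F), m ∈ deg C F n → ∀ i, ∃ K : ℕ, C.f i ^ K • m ∈ N

variable {C F}

theorem q_self_pow_smul (i : C.ι) (q : ℕ) {n : ℕ} (m : M C F) :
    cf C F (q + n) i (C.f i ^ q • m) = cf C F n i m := by
  have hq : C.f i ^ q ∈ 𝒜 q := by simpa using SetLike.pow_mem_graded q (C.hf i)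
  rw [show C.f i ^ q • m = ((⟨_, hq⟩ : 𝒜 q) : A) • m from rfl, cf_smul_add]
  have : C.r i q ⟨_, hq⟩ = 1 := oext fun z' => by
    rw [oval_one, HomogeneousLocalization.val_one, oval_rat, Localization.mk_eq_mk']
    exact IsLocalization.mk'_self _ _
  rw [this, one_smul]

theorem exists_gen (hF : Coh.IsQCoh F) (hft : CohB1.IsFT F) : Nonempty (Gen C F) := by
  classical
  have hfin := fun i => finite_of_isFT hF hft (Proj.isAffineOpen_basicOpen 𝒜 _ (C.hf i) one_pos : IsAffineOpen (C.U i))
  choose S hS using fun i => (hfin i).fg_top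
  choose n g hg hgt using fun p : Σ i, {x // x ∈ S i} => exists_cf_eq hF p.1 p.2.1
  let N : Submodule A (M C F) := Submodule.span A (Set.range g)
  have hgN : ∀ p, g p ∈ N := fun p => Submodule.subset_span ⟨p, rfl⟩
  have hreach : ∀ (i : C.ι) (t : Γ(F, C.U i)), ∃ (k : ℕ) (m : M C F), m ∈ N ∧ m ∈ deg C F k ∧ cf C F k i m = t := by
    intro i t
    have ht : t ∈ Submodule.span Γ(Proj 𝒜, C.U i) (S i : Set Γ(F, C.U i)) := by rw [hS i]; trivial
    have hfi : ∀ q, C.f i ^ q ∈ 𝒜 q := fun q => by simpa using SetLike.pow_mem_graded q (C.hf i)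
    induction ht using Submodule.span_induction with
    | mem x hx => exact ⟨n ⟨i, x, hx⟩, g ⟨i, x, hx⟩, hgN _, hg _, hgt _⟩
    | zero => exact ⟨0, 0, zero_mem _, zero_mem _, map_zero _⟩
    | add x y _ _ h h' =>
      obtain ⟨k, a, ha, had, rfl⟩ := h
      obtain ⟨l, b, hb, hbd, rfl⟩ := h'
      refine ⟨l + k, C.f i ^ l • a + C.f i ^ k • b, add_mem (N.smul_mem _ ha) (N.smul_mem _ hb),
        add_mem (SetLike.GradedSMul.smul_mem (hfi l) had)
          (Nat.add_comm k l ▸ SetLike.GradedSMul.smul_mem (hfi k) hbd), ?_⟩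
      rw [map_add, q_self_pow_smul]
      conv_lhs => arg 2; rw [Nat.add_comm l k]
      rw [q_self_pow_smul]
    | smul c x _ h =>
      obtain ⟨k, a, ha, had, rfl⟩ := h
      obtain ⟨z, rfl⟩ := (Proj.basicOpenIsoAway 𝒜 (C.f i) (C.hf i) one_pos).commRingCatIsoToRingEquiv.surjective c
      obtain ⟨l, b, hb, rfl⟩ := HomogeneousLocalization.Away.mk_surjective 𝒜 (C.hf i) z
      have hb' : b ∈ 𝒜 l := by simpa using hb
      refine ⟨l + k, b • a, N.smul_mem _ ha, SetLike.GradedSMul.smul_mem hb' had, ?_⟩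
      rw [show b • a = ((⟨b, hb'⟩ : 𝒜 l) : A) • a from rfl, cf_smul_add]
      rfl
  refine ⟨⟨N, Submodule.fg_span (Set.finite_range g), ?_, ?_⟩⟩
  · intro m hm
    induction hm using Submodule.span_induction with
    | mem x hx =>
      obtain ⟨p, rfl⟩ := hx
      exact Submodule.mem_iSup_of_mem (n p) ⟨hg p, hgN p⟩
    | zero => exact zero_mem _
    | add x y _ _ h h' => exact add_mem h h'
    | smul a x hx h =>
      clear hx
      refine Submodule.iSup_induction _ (motive := fun x => a • x ∈ ⨆ n, deg C F n ⊓ N.restrictScalars R) h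
        (fun k x hx => ?_) (by rw [smul_zero]; exact zero_mem _) (fun x y h h' => by rw [smul_add]; exact add_mem h h')
      induction a using DirectSum.Decomposition.inductionOn 𝒜 with
      | zero => rw [zero_smul]; exact zero_mem _
      | @homogeneous l a =>
        exact Submodule.mem_iSup_of_mem (l + k)
          ⟨SetLike.GradedSMul.smul_mem a.2 hx.1, N.smul_mem _ hx.2⟩
      | add a b ha hb => rw [add_smul]; exact add_mem ha hb
  · intro k m hm i
    obtain ⟨l, m', hm'N, hm', he⟩ := hreach i (cf C F k i m)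
    have hfi : ∀ q, C.f i ^ q ∈ 𝒜 q := fun q => by simpa using SetLike.pow_mem_graded q (C.hf i)
    have hmem : C.f i ^ l • m - C.f i ^ k • m' ∈ deg C F (l + k) :=
      sub_mem (SetLike.GradedSMul.smul_mem (hfi l) hm)
        (Nat.add_comm k l ▸ SetLike.GradedSMul.smul_mem (hfi k) hm')
    obtain ⟨K, hK⟩ := exists_pow_smul_eq_zero_of_cf hF hmem i (by
      rw [map_sub, q_self_pow_smul]
      conv_lhs => arg 2; rw [Nat.add_comm l k]
      rw [q_self_pow_smul, he, sub_self])
    rw [smul_sub, sub_eq_zero] at hK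
    exact ⟨K + l, by rw [pow_add, mul_smul, hK]; exact N.smul_mem _ (N.smul_mem _ hm'N)⟩

variable (G : Gen C F)

/-- The grading of the submodule. -/
def Gen.grade (n : ℕ) : Submodule R G.N := (deg C F n).comap (G.N.subtype.restrictScalars R)

theorem Gen.isInternal : DirectSum.IsInternal G.grade := by
  classical
  refine (DirectSum.isInternal_submodule_iff_iSupIndep_and_iSup_eq_top _).2 ⟨?_, ?_⟩
  · intro n
    rw [Submodule.disjoint_def]
    intro m hm hm'
    refine Subtype.ext ?_
    refine Submodule.disjoint_def.1 ((GammaStar.isInternal C F).submodule_iSupIndep n) m.1 hm ?_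
    exact (show ⨆ (j) (_ : j ≠ n), G.grade j ≤
      (⨆ (j) (_ : j ≠ n), deg C F j).comap (G.N.subtype.restrictScalars R) from
      iSup₂_le fun j hj => Submodule.comap_mono (le_iSup₂_of_le j hj le_rfl)) hm'
  · refine eq_top_iff.2 fun m _ => ?_
    suffices h : ∀ x ∈ ⨆ n, deg C F n ⊓ G.N.restrictScalars R, ∀ hx : x ∈ G.N, (⟨x, hx⟩ : G.N) ∈ ⨆ n, G.grade n from
      h m.1 (G.homogeneous m.1 m.2) m.2
    intro x hx
    have key : x ∈ (⨆ n, G.grade n).map (G.N.subtype.restrictScalars R) := by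
      rw [Submodule.map_iSup]
      exact (iSup_mono fun n => show deg C F n ⊓ G.N.restrictScalars R ≤
        (G.grade n).map (G.N.subtype.restrictScalars R) from fun z hz => ⟨⟨z, hz.2⟩, hz.1, rfl⟩) hx
    obtain ⟨y, hy, rfl⟩ := key
    exact fun hx => hy

instance : DirectSum.Decomposition G.grade := G.isInternal.chooseDecomposition

instance : SetLike.GradedSMul 𝒜 G.grade where
  smul_mem {i j} a m ha hm := by
    have h1 : (m : M C F) ∈ deg C F j := hm
    have h2 : a • (m : M C F) ∈ deg C F (i + j) := SetLike.GradedSMul.smul_mem ha h1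
    exact h2

/-- The inclusion on the associated sheaves. -/
def Gen.incl : GrMod.tilde 𝒜 G.grade 0 ⟶ T C F := GrMod.map 𝒜 G.N.subtype (fun _ _ h => h) 0

theorem Gen.isIso_incl : IsIso G.incl := by
  haveI : Mono G.incl := by
    refine mono_of_app_injective _ fun U => (injective_iff_map_eq_zero _).2 fun s hs => ?_
    refine eq_zero_of_locally U s fun x hx => ?_
    obtain ⟨f, d, hd, hf, hxf, hfU⟩ := exists_basicOpen_le 𝒜 (y := x) hx
    refine ⟨_, homOfLE hfU, hxf, map_app_injective 𝒜 (ℳ := G.grade) (𝒩 := deg C F) G.N.subtype (fun _ _ h => h) 0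
      (fun k _ m _ hm => Subtype.ext hm) 0 hd hf ?_⟩
    show G.incl.app _ _ = G.incl.app _ 0
    rw [map_app_comm, hs, map_zero, map_zero]
  haveI : Epi G.incl := by
    refine RelTildeX.epi_of_locally _ fun U s x hx => ?_
    obtain ⟨W, hW, p, a, t, hy, ha, ht, hv⟩ := exists_repr (C := C) (F := F) s ⟨x, hx⟩
    obtain ⟨i, hi⟩ := C.cover x
    obtain ⟨K, hK⟩ := G.reach p a ha i
    have hfK : C.f i ^ K ∈ 𝒜 K := by simpa using SetLike.pow_mem_graded K (C.hf i)
    let V : (Proj 𝒜).Opens := W ⊓ C.U i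
    have hnin : ∀ y : V, C.f i ^ K * (t : A) ∉ y.1.asHomogeneousIdeal := fun y hh =>
      (y.1.isPrime.mem_or_mem hh).elim (pow_notMem y.1.isPrime y.2.2 K) (ht ⟨y.1, y.2.1⟩)
    have hdeg : Deg G.grade (((K + p : ℕ) : ℤ) + 0) (⟨C.f i ^ K • a, hK⟩ : G.N) :=
      (deg_of_mem (show (⟨C.f i ^ K • a, hK⟩ : G.N) ∈ G.grade (K + p) from
        SetLike.GradedSMul.smul_mem hfK ha)).congr (add_zero _).symm
    refine ⟨V, inf_le_left.trans hW, ⟨hy, hi⟩,
      fracSect 𝒜 G.grade 0 V (SetLike.mul_mem_graded hfK t.2) hnin hdeg, ?_⟩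
    refine ext_val 𝒜 (deg C F) fun y => ?_
    rw [Gen.incl, GrMod.map_app_val, val_fracSect, GrMod.locMap_mk, val_res]
    refine Eq.trans ?_ (hv ⟨y.1, y.2.1⟩).symm
    rw [LocalizedModule.mk_eq]
    refine ⟨1, ?_⟩
    simp only [one_smul, Submonoid.smul_def, Submodule.coe_subtype, smul_smul]
    congr 1
    ring
  exact isIso_of_mono_of_epi _

/-- Finiteness of the submodule. -/
theorem Gen.finite : Module.Finite A G.N := Module.Finite.iff_fg.2 G.fg

end Groth.Agent.GammaStar
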