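import Groth.Agent.GammaStar.Ratio
import Mathlib.Algebra.Polynomial.Module.Basic

/-!
# The graded module of twisted sections of a module on `Proj`, computed on standard charts
-/

noncomputable section

universe u

set_option backward.isDefEq.respectTransparency false
set_option backward.isDefEq.respectTransparency.types false

open CategoryTheory AlgebraicGeometry TopologicalSpace DirectSum Opposite HomogeneousLocalization Polynomial

namespace Groth.Agent.GammaStar

variable {R A : Type u} [CommRing R] [CommRing A] [Algebra R A] {𝒜 : ℕ → Submodule R A} [GradedAlgebra 𝒜]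

/-- Homogeneous generators of degree one. -/
structure Charts (𝒜 : ℕ → Submodule R A) [GradedAlgebra 𝒜] where
  /-- The index type. -/
  ι : Type u
  fintype : Fintype ι
  /-- The elements. -/
  f : ι → A
  hf : ∀ i, f i ∈ 𝒜 1
  cover : ∀ y : ProjectiveSpectrum 𝒜, ∃ i, f i ∉ y.asHomogeneousIdeal

attribute [instance] Charts.fintype

variable (C : Charts 𝒜) (F : (Proj 𝒜).Modules)

/-- The chart `D₊(f i)`. -/
abbrev Charts.U (i : C.ι) : (Proj 𝒜).Opens := Proj.basicOpen 𝒜 (C.f i)

/-- `a / (f i) ^ k` on the chart `i`. -/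
abbrev Charts.r (i : C.ι) (k : ℕ) (a : 𝒜 k) : Γ(Proj 𝒜, C.U i) := rat (C.hf i) k a

/-- `f j / f i` on the chart `i`. -/
abbrev Charts.q (i j : C.ι) : Γ(Proj 𝒜, C.U i) := rat (C.hf i) 1 ⟨C.f j, C.hf j⟩

/-- The graded ring map `a ↦ ∑ (a_k / f ^ k) X ^ k`. -/
def Charts.φ (i : C.ι) : A →+* (Γ(Proj 𝒜, C.U i))[X] :=
  (DirectSum.toSemiring
    (fun k => (monomial k).toAddMonoidHom.comp (ratHom (C.hf i) k))
    (by
      show monomial 0 (rat (C.hf i) 0 _) = 1
      rw [← monomial_zero_one]
      exact congrArg _ (rat_one (C.hf i)))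
    (fun {k l} a b => by
      show monomial (k + l) (rat (C.hf i) (k + l) _) = monomial k (rat (C.hf i) k a) * monomial l (rat (C.hf i) l b)
      rw [monomial_mul_monomial, ← rat_mul]
      rfl)).comp (DirectSum.decomposeRingEquiv 𝒜).toRingHom

theorem Charts.φ_of_mem (i : C.ι) {k : ℕ} (a : 𝒜 k) : C.φ i (a : A) = monomial k (C.r i k a) := by
  rw [Charts.φ, RingHom.comp_apply, show (DirectSum.decomposeRingEquiv 𝒜).toRingHom (a : A) =
    DirectSum.of (fun k => 𝒜 k) k a from DirectSum.decompose_coe _ a, DirectSum.toSemiring_of]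
  rfl

/-- Polynomials with coefficients in the sections of `F` on a chart. -/
abbrev PolySect (i : C.ι) : Type u := PolynomialModule Γ(Proj 𝒜, C.U i) Γ(F, C.U i)

instance (i : C.ι) : Module A (PolySect C F i) := Module.compHom _ (C.φ i)

theorem smul_coeff (i : C.ι) {k : ℕ} (a : 𝒜 k) (g : PolySect C F i) (n : ℕ) :
    ((a : A) • g).coeff n = if k ≤ n then C.r i k a • g.coeff (n - k) else 0 := by
  show (C.φ i (a : A) • g).coeff n = _
  rw [C.φ_of_mem, PolynomialModule.monomial_smul_apply]

/-- A family on the charts which is compatible in degree `n`. -/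
def Compat (n : ℕ) (x : ∀ i, Γ(F, C.U i)) : Prop :=
  ∀ (i j : C.ι) (W : (Proj 𝒜).Opens) (hi : W ≤ C.U i) (hj : W ≤ C.U j),
    rO hi (C.q i j) ^ n • rM hj (x j) = rM hi (x i)

/-- The twisted sections of `F`, as an `A`-module. -/
def sub : Submodule A (∀ i, PolySect C F i) where
  carrier := {m | ∀ n, Compat C F n fun i => (m i).coeff n}
  zero_mem' n i j W hi hj := by simp
  add_mem' {m m'} h h' n i j W hi hj := by
    simp only [Pi.add_apply, PolynomialModule.coeff_add, Finsupp.add_apply, map_add, smul_add]
    exact congrArg₂ (· + ·) (h n i j W hi hj) (h' n i j W hi hj)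
  smul_mem' a m h := by
    induction a using DirectSum.Decomposition.inductionOn 𝒜 with
    | zero => intro n i j W hi hj; simp
    | homogeneous a =>
      rename_i k
      intro n i j W hi hj
      simp only [Pi.smul_apply, smul_coeff]
      split_ifs with hk
      · rw [rM_smul, rM_smul, ← h (n - k) i j W hi hj, smul_smul, smul_smul,
          ← rat_change (C.hf i) (C.hf j) k a hi hj]
        congr 1
        rw [mul_right_comm, ← pow_add, Nat.add_sub_cancel' hk]
      · simp
    | add a b ha hb =>
      intro n i j W hi hj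
      simp only [add_smul, Pi.add_apply, PolynomialModule.coeff_add, Finsupp.add_apply, map_add, smul_add]
      exact congrArg₂ (· + ·) (ha n i j W hi hj) (hb n i j W hi hj)

/-- The graded module of twisted sections. -/
def M : Type u := sub C F

instance : AddCommGroup (M C F) := inferInstanceAs (AddCommGroup (sub C F))
instance : Module A (M C F) := inferInstanceAs (Module A (sub C F))
instance : Module R (M C F) := Module.compHom _ (algebraMap R A)
instance : IsScalarTower R A (M C F) :=
  ⟨fun r a m => by rw [Algebra.smul_def, mul_smul]; rfl⟩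

/-- The degree-`n` coefficient on the chart `i`. -/
def cf (n : ℕ) (i : C.ι) : M C F →+ Γ(F, C.U i) where
  toFun m := (m.1 i).coeff n
  map_zero' := rfl
  map_add' _ _ := rfl

variable {C F}

theorem cf_compat (m : M C F) (n : ℕ) : Compat C F n fun i => cf C F n i m := m.2 n

theorem ext_cf {m m' : M C F} (h : ∀ n i, cf C F n i m = cf C F n i m') : m = m' :=
  Subtype.ext (funext fun i => PolynomialModule.ext (Finsupp.ext fun n => h n i))

theorem cf_smul {k : ℕ} (a : 𝒜 k) (m : M C F) (n : ℕ) (i : C.ι) :
    cf C F n i ((a : A) • m) = if k ≤ n then C.r i k a • cf C F (n - k) i m else 0 :=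
  smul_coeff C F i a (m.1 i) n

theorem cf_smul_add {k : ℕ} (a : 𝒜 k) (m : M C F) (n : ℕ) (i : C.ι) :
    cf C F (k + n) i ((a : A) • m) = C.r i k a • cf C F n i m := by
  rw [cf_smul, if_pos (Nat.le_add_right _ _), Nat.add_sub_cancel_left]

theorem cf_rsmul (r : R) (m : M C F) (n : ℕ) (i : C.ι) :
    cf C F n i (r • m) = C.r i 0 ⟨algebraMap R A r, SetLike.algebraMap_mem_graded 𝒜 r⟩ • cf C F n i m := by
  show cf C F n i (((⟨algebraMap R A r, SetLike.algebraMap_mem_graded 𝒜 r⟩ : 𝒜 0) : A) • m) = _
  simpa using cf_smul (⟨algebraMap R A r, SetLike.algebraMap_mem_graded 𝒜 r⟩ : 𝒜 0) m n i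

variable (C F)

/-- The degree-`n` part. -/
def deg (n : ℕ) : Submodule R (M C F) where
  carrier := {m | ∀ k i, k ≠ n → cf C F k i m = 0}
  zero_mem' k i _ := map_zero _
  add_mem' h h' k i hk := by rw [map_add, h k i hk, h' k i hk, add_zero]
  smul_mem' r m h k i hk := by rw [cf_rsmul, h k i hk, smul_zero]

variable {C F}

/-- An element of degree `n` from a compatible family. -/
def mkDeg (n : ℕ) (x : ∀ i, Γ(F, C.U i)) (hx : Compat C F n x) : M C F :=
  ⟨fun i => PolynomialModule.single _ n (x i), fun k => by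
    intro i j W hi hj
    simp only [PolynomialModule.coeff_single, Finsupp.single_apply]
    split_ifs with h
    · subst h; exact hx i j W hi hj
    · simp⟩

theorem cf_mkDeg (n k : ℕ) (x : ∀ i, Γ(F, C.U i)) (hx : Compat C F n x) (i : C.ι) :
    cf C F k i (mkDeg n x hx) = if n = k then x i else 0 := by
  show (PolynomialModule.single Γ(Proj 𝒜, C.U i) n (x i)).coeff k = _
  rw [PolynomialModule.coeff_single, Finsupp.single_apply]

theorem cf_mkDeg_self (n : ℕ) (x : ∀ i, Γ(F, C.U i)) (hx : Compat C F n x) (i : C.ι) :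
    cf C F n i (mkDeg n x hx) = x i := by rw [cf_mkDeg, if_pos rfl]

theorem mkDeg_mem (n : ℕ) (x : ∀ i, Γ(F, C.U i)) (hx : Compat C F n x) : mkDeg n x hx ∈ deg C F n :=
  fun k i hk => by rw [cf_mkDeg, if_neg hk.symm]

theorem eq_zero_of_mem {n : ℕ} {m : M C F} (hm : m ∈ deg C F n) (h : ∀ i, cf C F n i m = 0) : m = 0 :=
  ext_cf fun k i => by
    rw [map_zero]
    by_cases hk : k = n
    · subst hk; exact h i
    · exact hm k i hk

variable (C F)

theorem isInternal : DirectSum.IsInternal (deg C F) := by
  classical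
  refine (DirectSum.isInternal_submodule_iff_iSupIndep_and_iSup_eq_top _).2 ⟨?_, ?_⟩
  · intro n
    rw [Submodule.disjoint_def]
    intro m hm hm'
    let Z : Submodule R (M C F) :=
      { carrier := {m | ∀ i, cf C F n i m = 0}
        zero_mem' := fun i => map_zero _
        add_mem' := fun h h' i => by rw [map_add, h i, h' i, add_zero]
        smul_mem' := fun r m h i => by rw [cf_rsmul, h i, smul_zero] }
    refine eq_zero_of_mem hm ((show ⨆ (j) (_ : j ≠ n), deg C F j ≤ Z from ?_) hm')
    exact iSup₂_le fun j hj m hm i => hm n i hj.symm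
  · refine eq_top_iff.2 fun m _ => ?_
    let s : Finset ℕ := Finset.univ.biUnion fun i => (m.1 i).coeff.support
    have e : m = ∑ n ∈ s, mkDeg n (fun i => cf C F n i m) (cf_compat m n) := by
      refine ext_cf fun k i => ?_
      rw [map_sum]
      simp only [cf_mkDeg, Finset.sum_ite_eq']
      split_ifs with hk
      · rfl
      · by_contra h
        exact hk (Finset.mem_biUnion.2 ⟨i, Finset.mem_univ i, Finsupp.mem_support_iff.2 h⟩)
    rw [e]
    exact sum_mem fun n _ => Submodule.mem_iSup_of_mem n (mkDeg_mem n _ _)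

instance : DirectSum.Decomposition (deg C F) := (isInternal C F).chooseDecomposition

instance : SetLike.GradedSMul 𝒜 (deg C F) where
  smul_mem {k n} a m ha hm := fun l i hl => by
    rw [show a • m = ((⟨a, ha⟩ : 𝒜 k) : A) • m from rfl, cf_smul]
    split_ifs with h
    · rw [hm (l - k) i (fun h' => hl (by show l = k + n; omega)), smul_zero]
    · rfl

end Groth.Agent.GammaStar
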