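import Groth.Agent.GrModX.QCohTilde
import Groth.Agent.QCoh.Sections

/-!
# The functions `a / f ^ k` on a standard chart of `Proj`
-/

noncomputable section

universe u

set_option backward.isDefEq.respectTransparency false
set_option backward.isDefEq.respectTransparency.types false

open CategoryTheory AlgebraicGeometry TopologicalSpace DirectSum Opposite HomogeneousLocalization
open Groth.Agent.GrModX Groth.Agent.QCoh

namespace Groth.Agent.GammaStar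

variable {R A : Type u} [CommRing R] [CommRing A] [Algebra R A] {𝒜 : ℕ → Submodule R A} [GradedAlgebra 𝒜]

/-- Restriction of functions. -/
abbrev rO {U V : (Proj 𝒜).Opens} (h : V ≤ U) (c : Γ(Proj 𝒜, U)) : Γ(Proj 𝒜, V) :=
  (Proj 𝒜).presheaf.map (homOfLE h).op c

/-- Restriction of sections of a module. -/
abbrev rM {F : (Proj 𝒜).Modules} {U V : (Proj 𝒜).Opens} (h : V ≤ U) (w : Γ(F, U)) : Γ(F, V) :=
  F.presheaf.map (homOfLE h).op w

theorem rO_rO {U V W : (Proj 𝒜).Opens} (h : V ≤ U) (h' : W ≤ V) (c : Γ(Proj 𝒜, U)) :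
    rO h' (rO h c) = rO (h'.trans h) c := ringMap_map _ _ _

theorem rM_rM {F : (Proj 𝒜).Modules} {U V W : (Proj 𝒜).Opens} (h : V ≤ U) (h' : W ≤ V) (w : Γ(F, U)) :
    rM h' (rM h w) = rM (h'.trans h) w := map_map _ _ _

theorem rM_smul {F : (Proj 𝒜).Modules} {U V : (Proj 𝒜).Opens} (h : V ≤ U) (c : Γ(Proj 𝒜, U)) (w : Γ(F, U)) :
    rM h (c • w) = rO h c • rM h w := map_smul' _ _ _

theorem rM_zero {F : (Proj 𝒜).Modules} {U V : (Proj 𝒜).Opens} (h : V ≤ U) : rM (F := F) h 0 = 0 := map_zero _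

theorem rM_sub {F : (Proj 𝒜).Modules} {U V : (Proj 𝒜).Opens} (h : V ≤ U) (w w' : Γ(F, U)) :
    rM h (w - w') = rM h w - rM h w' := map_sub _ _ _

theorem rM_add {F : (Proj 𝒜).Modules} {U V : (Proj 𝒜).Opens} (h : V ≤ U) (w w' : Γ(F, U)) :
    rM h (w + w') = rM h w + rM h w' := map_add _ _ _

theorem rO_pow {U V : (Proj 𝒜).Opens} (h : V ≤ U) (c : Γ(Proj 𝒜, U)) (k : ℕ) : rO h (c ^ k) = rO h c ^ k :=
  map_pow _ _ _

theorem rO_mul {U V : (Proj 𝒜).Opens} (h : V ≤ U) (c d : Γ(Proj 𝒜, U)) : rO h (c * d) = rO h c * rO h d :=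
  map_mul _ _ _

theorem rO_one {U V : (Proj 𝒜).Opens} (h : V ≤ U) : rO h (1 : Γ(Proj 𝒜, U)) = 1 := map_one _

theorem rM_self {F : (Proj 𝒜).Modules} {U : (Proj 𝒜).Opens} (h : U ≤ U) (w : Γ(F, U)) : rM h w = w := map_id' _ _

theorem oext {U : (Proj 𝒜).Opens} {c d : Γ(Proj 𝒜, U)}
    (h : ∀ y : U, (oval 𝒜 c y).val = (oval 𝒜 d y).val) : c = d :=
  Subtype.ext (funext fun y => HomogeneousLocalization.val_injective _ (h y))

theorem oval_add {U : (Proj 𝒜).Opens} (c d : Γ(Proj 𝒜, U)) (y : U) :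
    oval 𝒜 (c + d) y = oval 𝒜 c y + oval 𝒜 d y := rfl

theorem oval_mul {U : (Proj 𝒜).Opens} (c d : Γ(Proj 𝒜, U)) (y : U) :
    oval 𝒜 (c * d) y = oval 𝒜 c y * oval 𝒜 d y := rfl

theorem oval_one {U : (Proj 𝒜).Opens} (y : U) : oval 𝒜 (1 : Γ(Proj 𝒜, U)) y = 1 := rfl

/-- The function `a / f ^ k` on `D₊(f)`, for `f` of degree one and `a` of degree `k`. -/
def rat {f : A} (hf : f ∈ 𝒜 1) (k : ℕ) (a : 𝒜 k) : Γ(Proj 𝒜, Proj.basicOpen 𝒜 f) :=
  Proj.awayToSection 𝒜 f (Away.mk 𝒜 hf k a.1 (by rw [smul_eq_mul, mul_one]; exact a.2))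

theorem oval_rO_rat {f : A} (hf : f ∈ 𝒜 1) (k : ℕ) (a : 𝒜 k) {W : (Proj 𝒜).Opens}
    (h : W ≤ Proj.basicOpen 𝒜 f) (y : W) :
    (oval 𝒜 (rO h (rat hf k a)) y).val =
      Localization.mk a.1 ⟨f ^ k, pow_notMem y.1.isPrime (h y.2) k⟩ := rfl

theorem oval_rat {f : A} (hf : f ∈ 𝒜 1) (k : ℕ) (a : 𝒜 k) (y : Proj.basicOpen 𝒜 f) :
    (oval 𝒜 (rat hf k a) y).val = Localization.mk a.1 ⟨f ^ k, pow_notMem y.1.isPrime y.2 k⟩ := rfl

/-- The additive map `a ↦ a / f ^ k`. -/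
def ratHom {f : A} (hf : f ∈ 𝒜 1) (k : ℕ) : 𝒜 k →+ Γ(Proj 𝒜, Proj.basicOpen 𝒜 f) :=
  AddMonoidHom.mk' (rat hf k) fun a b => oext fun y => by
    rw [oval_add, HomogeneousLocalization.val_add, oval_rat, oval_rat, oval_rat, Localization.add_mk_self]
    rfl

theorem ratHom_apply {f : A} (hf : f ∈ 𝒜 1) (k : ℕ) (a : 𝒜 k) : ratHom hf k a = rat hf k a := rfl

theorem rat_mul {f : A} (hf : f ∈ 𝒜 1) {k l : ℕ} (a : 𝒜 k) (b : 𝒜 l) :
    rat hf (k + l) ⟨a.1 * b.1, SetLike.mul_mem_graded a.2 b.2⟩ = rat hf k a * rat hf l b :=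
  oext fun y => by
    rw [oval_mul, HomogeneousLocalization.val_mul, oval_rat, oval_rat, oval_rat, Localization.mk_mul]
    congr 1
    exact Subtype.ext (pow_add f k l)

theorem rat_one {f : A} (hf : f ∈ 𝒜 1) : rat hf 0 ⟨1, SetLike.GradedOne.one_mem⟩ = 1 :=
  oext fun y => by
    rw [oval_one, HomogeneousLocalization.val_one, oval_rat, ← Localization.mk_one]
    congr 1
    exact Subtype.ext (pow_zero f)

theorem rat_self {f : A} (hf : f ∈ 𝒜 1) : rat hf 1 ⟨f, hf⟩ = 1 :=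
  oext fun y => by
    rw [oval_one, HomogeneousLocalization.val_one, oval_rat, Localization.mk_eq_mk']
    rw [IsLocalization.mk'_eq_iff_eq_mul, one_mul]
    simp only [pow_one]

/-- Change of chart: `(g/f) ^ k * (a / g ^ k) = a / f ^ k`. -/
theorem rat_change {f g : A} (hf : f ∈ 𝒜 1) (hg : g ∈ 𝒜 1) (k : ℕ) (a : 𝒜 k) {W : (Proj 𝒜).Opens}
    (h : W ≤ Proj.basicOpen 𝒜 f) (h' : W ≤ Proj.basicOpen 𝒜 g) :
    rO h (rat hf 1 ⟨g, hg⟩) ^ k * rO h' (rat hg k a) = rO h (rat hf k a) :=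
  oext fun y => by
    rw [oval_mul, oval_pow, HomogeneousLocalization.val_mul, HomogeneousLocalization.val_pow, oval_rO_rat,
      oval_rO_rat, oval_rO_rat, Localization.mk_pow, Localization.mk_mul, Localization.mk_eq_mk_iff,
      Localization.r_iff_exists]
    refine ⟨1, ?_⟩
    simp only [OneMemClass.coe_one, Submonoid.coe_mul, SubmonoidClass.coe_pow, pow_one]
    ring

theorem isUnit_rO_rat {f : A} (hf : f ∈ 𝒜 1) (k : ℕ) (a : 𝒜 k) {W : (Proj 𝒜).Opens}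
    (h : W ≤ Proj.basicOpen 𝒜 f) (ha : ∀ y : W, a.1 ∉ y.1.asHomogeneousIdeal) :
    IsUnit (rO h (rat hf k a)) := by
  have hb : W ≤ (Proj 𝒜).basicOpen (rat hf k a) := by
    intro y hy
    rw [rat, basicOpen_awayToSection]
    exact fun h' => (y.isPrime.mem_or_mem h').elim (h hy) (ha ⟨y, hy⟩)
  have h1 : IsUnit (rO ((Proj 𝒜).basicOpen_le (rat hf k a)) (rat hf k a)) :=
    RingedSpace.isUnit_res_basicOpen (Proj 𝒜).toLocallyRingedSpace.toRingedSpace _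
  have h2 := h1.map ((Proj 𝒜).presheaf.map (homOfLE hb).op).hom
  rwa [show ((Proj 𝒜).presheaf.map (homOfLE hb).op).hom
    (rO ((Proj 𝒜).basicOpen_le (rat hf k a)) (rat hf k a)) = rO h (rat hf k a) from rO_rO _ _ _] at h2

theorem isUnit_rO_rat_pow {f g : A} (hf : f ∈ 𝒜 1) (hg : g ∈ 𝒜 1) {W : (Proj 𝒜).Opens}
    (h : W ≤ Proj.basicOpen 𝒜 f) (h' : W ≤ Proj.basicOpen 𝒜 g) (k : ℕ) :
    IsUnit (rO h (rat hf 1 ⟨g, hg⟩) ^ k) :=
  (isUnit_rO_rat hf 1 ⟨g, hg⟩ h fun y => h' y.2).pow k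

theorem basicOpen_rat {f : A} (hf : f ∈ 𝒜 1) (k : ℕ) (a : 𝒜 k) :
    (Proj 𝒜).basicOpen (rat hf k a) = Proj.basicOpen 𝒜 (f * a.1) := by
  rw [rat, basicOpen_awayToSection]

theorem mem_basicOpen_rat {f : A} (hf : f ∈ 𝒜 1) (k : ℕ) (a : 𝒜 k) (y : ProjectiveSpectrum 𝒜) :
    y ∈ (Proj 𝒜).basicOpen (rat hf k a) ↔ f ∉ y.asHomogeneousIdeal ∧ a.1 ∉ y.asHomogeneousIdeal := by
  rw [basicOpen_rat]
  exact ⟨fun h => ⟨fun h' => h (y.asHomogeneousIdeal.toIdeal.mul_mem_right _ h'),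
    fun h' => h (y.asHomogeneousIdeal.toIdeal.mul_mem_left _ h')⟩,
    fun h h' => (y.isPrime.mem_or_mem h').elim h.1 h.2⟩

end Groth.Agent.GammaStar
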