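import Groth.Agent.GammaStar.Extend
import Groth.Agent.GrModX.MapProps

/-!
# The comparison map from the sheaf attached to twisted sections
-/

noncomputable section

universe u

set_option backward.isDefEq.respectTransparency false
set_option backward.isDefEq.respectTransparency.types false

open CategoryTheory AlgebraicGeometry TopologicalSpace DirectSum Opposite Groth.Agent.QCoh Groth.Agent.GrModX

namespace Groth.Agent.GammaStar

variable {R A : Type u} [CommRing R] [CommRing A] [Algebra R A] {𝒜 : ℕ → Submodule R A} [GradedAlgebra 𝒜]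
variable (C : Charts 𝒜) (F : (Proj 𝒜).Modules)

/-- The sheaf attached to the twisted sections. -/
abbrev T : (Proj 𝒜).Modules := GrMod.tilde 𝒜 (deg C F) 0

variable {C F}

theorem r_mul (i : C.ι) {k l : ℕ} (a : 𝒜 k) (b : 𝒜 l) :
    C.r i (k + l) ⟨a.1 * b.1, SetLike.mul_mem_graded a.2 b.2⟩ = C.r i k a * C.r i l b := rat_mul _ _ _

/-- `a / t` represents the section on `W`. -/
def Repr {V : (Proj 𝒜).Opens} (sec : Γ(T C F, V)) (W : (Proj 𝒜).Opens) (h : W ≤ V) {p : ℕ}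
    (a : M C F) (t : 𝒜 p) : Prop :=
  ∃ ht : ∀ y : W, (t : A) ∉ y.1.asHomogeneousIdeal, ∀ y : W,
    GrMod.val sec ⟨y.1, h y.2⟩ = LocalizedModule.mk a ⟨(t : A), ht y⟩

theorem Repr.res {V V' : (Proj 𝒜).Opens} {sec : Γ(T C F, V)} {W W' : (Proj 𝒜).Opens} {h : W ≤ V} {p : ℕ}
    {a : M C F} {t : 𝒜 p} (hr : Repr sec W h a t) (hV : V' ≤ V) (hW : W' ≤ W) (h' : W' ≤ V') :
    Repr (rM hV sec) W' h' a t := by
  obtain ⟨ht, hv⟩ := hr
  exact ⟨fun y => ht ⟨y.1, hW y.2⟩, fun y => hv ⟨y.1, hW y.2⟩⟩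

theorem Repr.mono {V : (Proj 𝒜).Opens} {sec : Γ(T C F, V)} {W W' : (Proj 𝒜).Opens} {h : W ≤ V} {p : ℕ}
    {a : M C F} {t : 𝒜 p} (hr : Repr sec W h a t) (hW : W' ≤ W) : Repr sec W' (hW.trans h) a t := by
  obtain ⟨ht, hv⟩ := hr
  exact ⟨fun y => ht ⟨y.1, hW y.2⟩, fun y => hv ⟨y.1, hW y.2⟩⟩

theorem exists_repr {V : (Proj 𝒜).Opens} (sec : Γ(T C F, V)) (y : V) :
    ∃ (W : (Proj 𝒜).Opens) (h : W ≤ V) (p : ℕ) (a : M C F) (t : 𝒜 p),
      y.1 ∈ W ∧ a ∈ deg C F p ∧ Repr sec W h a t := by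
  obtain ⟨W, hyW, iW, i, j, ⟨m, hm⟩, t, ht, hd, hv⟩ := (sec : GrMod.sect 𝒜 (deg C F) 0 (op V)).2 y
  refine ⟨W, iW.le, j, m, t, hyW, ?_, ht, fun z => hv z⟩
  rcases hd with hd | hd
  · obtain rfl : i = j := by omega
    exact hm
  · rw [show m = 0 from hd]; exact zero_mem _

theorem eq_of_locally {W : (Proj 𝒜).Opens} (x x' : Γ(F, W))
    (h : ∀ y : W, ∃ (W' : (Proj 𝒜).Opens) (hW : W' ≤ W), y.1 ∈ W' ∧ rM hW x = rM hW x') : x = x' := by
  rw [← sub_eq_zero]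
  refine eq_zero_of_locally W _ fun y hy => ?_
  obtain ⟨W', hW, hyW, e⟩ := h ⟨y, hy⟩
  exact ⟨W', homOfLE hW, hyW, (rM_sub hW x x').trans (by rw [e, sub_self])⟩

/-- The image of `x` on a chart only depends on the fraction. -/
theorem rel_transfer (i : C.ι) {W : (Proj 𝒜).Opens} (hi : W ≤ C.U i) {p q : ℕ} {a b : M C F}
    (ha : a ∈ deg C F p) (hb : b ∈ deg C F q) (s : 𝒜 p) (t : 𝒜 q)
    (hs : ∀ y : W, (s : A) ∉ y.1.asHomogeneousIdeal) (ht : ∀ y : W, (t : A) ∉ y.1.asHomogeneousIdeal)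
    (heq : ∀ y : W, (LocalizedModule.mk a ⟨(s : A), hs y⟩ : GrMod.LocMod 𝒜 (M := M C F) y.1) =
      LocalizedModule.mk b ⟨(t : A), ht y⟩)
    (x : Γ(F, W)) (hx : rO hi (C.r i p s) • x = rM hi (cf C F p i a)) :
    rO hi (C.r i q t) • x = rM hi (cf C F q i b) := by
  classical
  refine eq_of_locally _ _ fun y => ?_
  obtain ⟨⟨u, hu⟩, hue⟩ := LocalizedModule.mk_eq.mp (heq y)
  simp only [Submonoid.smul_def] at hue
  have hz : Deg (deg C F) ((p + q : ℕ) : ℤ) ((t : A) • a - (s : A) • b) :=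
    (((deg_of_mem ha).smul 𝒜 t.2).congr (by push_cast; ring)).sub
      (((deg_of_mem hb).smul 𝒜 s.2).congr (by push_cast; ring))
  obtain ⟨e, he⟩ : ∃ e, (decompose 𝒜 u e : A) ∉ y.1.asHomogeneousIdeal := by
    by_contra! hall
    exact hu (by rw [← sum_support_decompose 𝒜 u]; exact Ideal.sum_mem _ fun i _ => hall i)
  have hkill := hz.proj_smul_eq_zero 𝒜 (by rw [smul_sub, hue, sub_self]) e
  rw [GradedRing.proj_apply, smul_sub, sub_eq_zero] at hkill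
  let W' : (Proj 𝒜).Opens := W ⊓ Proj.basicOpen 𝒜 (decompose 𝒜 u e : A)
  have hW : W' ≤ W := inf_le_left
  refine ⟨W', hW, ⟨y.2, he⟩, ?_⟩
  have hi' : W' ≤ C.U i := hW.trans hi
  have h1 := congrArg (cf C F (e + (q + p)) i) hkill
  rw [cf_smul_add (decompose 𝒜 u e), cf_smul_add (decompose 𝒜 u e), cf_smul_add t,
    Nat.add_comm q p, cf_smul_add s] at h1
  have h2 := congrArg (rM hi') h1
  simp only [rM_smul] at h2
  have h3 := (isUnit_rO_rat (C.hf i) e (decompose 𝒜 u e) hi' fun z => z.2.2).smul_left_cancel.1 h2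
  have h4 := congrArg (rM hW) hx
  rw [rM_smul, rO_rO, rM_rM] at h4
  rw [← h4, smul_smul, mul_comm, mul_smul] at h3
  rw [rM_smul, rO_rO, rM_rM]
  exact (isUnit_rO_rat (C.hf i) p s hi' fun z => hs ⟨z.1, hW z.2⟩).smul_left_cancel.1 h3

/-- Change of chart. -/
theorem rel_chart (i j : C.ι) {W : (Proj 𝒜).Opens} (hi : W ≤ C.U i) (hj : W ≤ C.U j) {p : ℕ} (a : M C F)
    (s : 𝒜 p) (x : Γ(F, W)) (hx : rO hi (C.r i p s) • x = rM hi (cf C F p i a)) :
    rO hj (C.r j p s) • x = rM hj (cf C F p j a) := by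
  refine (isUnit_rO_rat_pow (C.hf i) (C.hf j) hi hj p).smul_left_cancel.1 ?_
  rw [smul_smul, rat_change (C.hf i) (C.hf j) p s hi hj]
  exact hx.trans (cf_compat a p i j W hi hj).symm

/-- `w` corresponds to the section `sec`. -/
def Rel {V : (Proj 𝒜).Opens} (sec : Γ(T C F, V)) (w : Γ(F, V)) : Prop :=
  ∀ (i : C.ι) (W : (Proj 𝒜).Opens) (h : W ≤ V) (hi : W ≤ C.U i) (p : ℕ) (a : M C F) (t : 𝒜 p),
    a ∈ deg C F p → Repr sec W h a t → rO hi (C.r i p t) • rM h w = rM hi (cf C F p i a)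

theorem exists_repr_chart {V : (Proj 𝒜).Opens} (sec : Γ(T C F, V)) (y : V) :
    ∃ (i : C.ι) (W : (Proj 𝒜).Opens) (h : W ≤ V) (_ : W ≤ C.U i) (p : ℕ) (a : M C F) (t : 𝒜 p),
      y.1 ∈ W ∧ a ∈ deg C F p ∧ Repr sec W h a t := by
  obtain ⟨W, h, p, a, t, hy, ha, hr⟩ := exists_repr sec y
  obtain ⟨i, hi⟩ := C.cover y.1
  exact ⟨i, W ⊓ C.U i, inf_le_left.trans h, inf_le_right, p, a, t, ⟨hy, hi⟩, ha, hr.mono inf_le_left⟩

theorem rel_unique {V : (Proj 𝒜).Opens} {sec : Γ(T C F, V)} {w w' : Γ(F, V)} (h : Rel sec w) (h' : Rel sec w') :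
    w = w' := by
  refine eq_of_locally _ _ fun y => ?_
  obtain ⟨i, W, hW, hi, p, a, t, hy, ha, hr⟩ := exists_repr_chart sec y
  refine ⟨W, hW, hy, ?_⟩
  exact (isUnit_rO_rat (C.hf i) p t hi hr.1).smul_left_cancel.1
    ((h i W hW hi p a t ha hr).trans (h' i W hW hi p a t ha hr).symm)

theorem rel_res {V V' : (Proj 𝒜).Opens} (hV : V' ≤ V) {sec : Γ(T C F, V)} {w : Γ(F, V)} (h : Rel sec w) :
    Rel (rM hV sec) (rM hV w) := fun i W hW hi p a t ha hr => by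
  rw [rM_rM]
  exact h i W (hW.trans hV) hi p a t ha ⟨hr.1, fun y => hr.2 y⟩

/-- It is enough to check the relation locally, on one fraction. -/
theorem rel_of_locally {V : (Proj 𝒜).Opens} {sec : Γ(T C F, V)} {w : Γ(F, V)}
    (h : ∀ y : V, ∃ (i : C.ι) (W : (Proj 𝒜).Opens) (hW : W ≤ V) (hi : W ≤ C.U i) (p : ℕ) (a : M C F) (t : 𝒜 p),
      y.1 ∈ W ∧ a ∈ deg C F p ∧ Repr sec W hW a t ∧ rO hi (C.r i p t) • rM hW w = rM hi (cf C F p i a)) :
    Rel sec w := by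
  intro j W' hW' hj q b s hb hr'
  refine eq_of_locally _ _ fun y => ?_
  obtain ⟨i, W, hW, hi, p, a, t, hy, ha, hr, e⟩ := h ⟨y.1, hW' y.2⟩
  refine ⟨W ⊓ W', inf_le_right, ⟨hy, y.2⟩, ?_⟩
  have hji : W ⊓ W' ≤ C.U i := inf_le_left.trans hi
  have hjj : W ⊓ W' ≤ C.U j := inf_le_right.trans hj
  have e2 := congrArg (rM (inf_le_left : W ⊓ W' ≤ W)) e
  rw [rM_smul, rO_rO, rM_rM, rM_rM] at e2
  have e3 := rel_transfer j hjj ha hb t s (fun z => hr.1 ⟨z.1, z.2.1⟩) (fun z => hr'.1 ⟨z.1, z.2.2⟩)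
    (fun z => (hr.2 ⟨z.1, z.2.1⟩).symm.trans (hr'.2 ⟨z.1, z.2.2⟩)) _ (rel_chart i j hji hjj a t _ e2)
  rw [rM_smul, rO_rO, rM_rM, rM_rM]
  exact e3

theorem exists_rel {V : (Proj 𝒜).Opens} (sec : Γ(T C F, V)) : ∃ w : Γ(F, V), Rel sec w := by
  choose i W hW hi p a t hy ha hr using exists_repr_chart sec
  let u : ∀ y, (Γ(Proj 𝒜, W y))ˣ := fun y => (isUnit_rO_rat (C.hf (i y)) (p y) (t y) (hi y) (hr y).1).unit
  let w : ∀ y, Γ(F, W y) := fun y => ((u y)⁻¹ : (Γ(Proj 𝒜, W y))ˣ).1 • rM (hi y) (cf C F (p y) (i y) (a y))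
  have hw : ∀ y, Rel (rM (hW y) sec) (w y) := fun y => rel_of_locally fun z =>
    ⟨i y, W y, le_rfl, hi y, p y, a y, t y, z.2, ha y, (hr y).res (hW y) le_rfl le_rfl, by
      rw [rM_self]
      show (u y).1 • w y = _
      rw [smul_smul, Units.mul_inv, one_smul]⟩
  obtain ⟨s, hs, -⟩ := TopCat.Sheaf.existsUnique_gluing' ⟨F.presheaf, F.isSheaf⟩ W V (fun y => homOfLE (hW y))
    (fun z hz => Opens.mem_iSup.2 ⟨⟨z, hz⟩, hy _⟩) w fun y z => by
      show rM inf_le_left (w y) = rM inf_le_right (w z)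
      refine rel_unique (rel_res inf_le_left (hw y)) ?_
      have h2 := rel_res (inf_le_right : W y ⊓ W z ≤ W z) (hw z)
      rw [rM_rM] at h2 ⊢
      exact h2
  refine ⟨s, rel_of_locally fun y => ⟨i y, W y, hW y, hi y, p y, a y, t y, hy y, ha y, hr y, ?_⟩⟩
  rw [show rM (hW y) s = w y from hs y]
  show (u y).1 • w y = _
  rw [smul_smul, Units.mul_inv, one_smul]

theorem rel_add {V : (Proj 𝒜).Opens} {sec sec' : Γ(T C F, V)} {w w' : Γ(F, V)} (h : Rel sec w)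
    (h' : Rel sec' w') : Rel (sec + sec') (w + w') := by
  refine rel_of_locally fun y => ?_
  obtain ⟨i, W, hW, hi, p, a, s, hy, ha, hr⟩ := exists_repr_chart sec y
  obtain ⟨W', hW', q, b, t, hy', hb, hr'⟩ := exists_repr sec' y
  have e := h i _ (inf_le_left.trans hW) ((inf_le_left : W ⊓ W' ≤ W).trans hi) p a s ha (hr.mono inf_le_left)
  have e' := h' i _ (inf_le_left.trans hW) ((inf_le_left : W ⊓ W' ≤ W).trans hi) q b t hb (hr'.mono inf_le_right)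
  refine ⟨i, W ⊓ W', inf_le_left.trans hW, inf_le_left.trans hi, p + q, (t : A) • a + (s : A) • b,
    ⟨(s : A) * t, SetLike.mul_mem_graded s.2 t.2⟩, ⟨hy, hy'⟩,
    add_mem (Nat.add_comm q p ▸ SetLike.GradedSMul.smul_mem t.2 ha) (SetLike.GradedSMul.smul_mem s.2 hb),
    ⟨fun z hz => (z.1.isPrime.mem_or_mem hz).elim (hr.1 ⟨z.1, z.2.1⟩) (hr'.1 ⟨z.1, z.2.2⟩), fun z => ?_⟩, ?_⟩
  · show GrMod.val sec ⟨z.1, _⟩ + GrMod.val sec' ⟨z.1, _⟩ = _
    erw [hr.2 ⟨z.1, z.2.1⟩, hr'.2 ⟨z.1, z.2.2⟩]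
    rw [LocalizedModule.mk_add_mk]
    rfl
  · rw [rM_add, smul_add, r_mul, rO_mul, map_add, rM_add]
    refine congrArg₂ (· + ·) ?_ ?_
    · rw [Nat.add_comm p q, cf_smul_add t, rM_smul, mul_comm, mul_smul, e]
    · rw [cf_smul_add s, rM_smul, mul_smul, e']

theorem rel_smul {V : (Proj 𝒜).Opens} (c : Γ(Proj 𝒜, V)) {sec : Γ(T C F, V)} {w : Γ(F, V)} (h : Rel sec w) :
    Rel (c • sec) (c • w) := by
  refine rel_of_locally fun y => ?_
  obtain ⟨i, W, hW, hi, p, a, s, hy, ha, hr⟩ := exists_repr_chart sec y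
  obtain ⟨W₀, hy', iW', k, ⟨r, hr0⟩, ⟨t, ht0⟩, hnin, hc⟩ := (c : GrTwist.O (𝒜 := 𝒜) (op V)).2 y
  let W' : (Proj 𝒜).Opens := W₀
  have hW' : W' ≤ V := iW'.le
  have hi' : W ⊓ W' ≤ C.U i := inf_le_left.trans hi
  have e := h i _ (inf_le_left.trans hW) hi' p a s ha (hr.mono inf_le_left)
  have hcv : ∀ z : (W ⊓ W' : (Proj 𝒜).Opens), (oval 𝒜 c ⟨z.1, hW' z.2.2⟩).val =
      Localization.mk r ⟨t, hnin ⟨z.1, z.2.2⟩⟩ := fun z => by
    refine (congrArg HomogeneousLocalization.val (hc ⟨z.1, z.2.2⟩)).trans ?_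
    rw [HomogeneousLocalization.val_mk]
  refine ⟨i, W ⊓ W', inf_le_left.trans hW, hi', k + p, r • a,
    ⟨t * (s : A), SetLike.mul_mem_graded ht0 s.2⟩, ⟨hy, hy'⟩, SetLike.GradedSMul.smul_mem hr0 ha,
    ⟨fun z hz => (z.1.isPrime.mem_or_mem hz).elim (hnin ⟨z.1, z.2.2⟩) (hr.1 ⟨z.1, z.2.1⟩), fun z => ?_⟩, ?_⟩
  · rw [GrModX.val_smul, hcv z]
    erw [hr.2 ⟨z.1, z.2.1⟩]
    rw [LocalizedModule.mk_smul_mk]
    rfl
  · have hct : rO (inf_le_left.trans hW) c * rO hi' (C.r i k ⟨t, ht0⟩) = rO hi' (C.r i k ⟨r, hr0⟩) :=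
      oext fun z => by
        rw [oval_mul, HomogeneousLocalization.val_mul, oval_rO_rat, oval_rO_rat,
          show oval 𝒜 (rO (inf_le_left.trans hW) c) z = oval 𝒜 c ⟨z.1, hW' z.2.2⟩ from rfl, hcv z,
          Localization.mk_mul, Localization.mk_eq_mk_iff, Localization.r_iff_exists]
        refine ⟨1, ?_⟩
        simp only [OneMemClass.coe_one, Submonoid.coe_mul]
        ring
    rw [show (⟨t * (s : A), SetLike.mul_mem_graded ht0 s.2⟩ : 𝒜 (k + p)) =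
      ⟨(⟨t, ht0⟩ : 𝒜 k).1 * s.1, SetLike.mul_mem_graded ht0 s.2⟩ from rfl, r_mul, rO_mul, rM_smul, smul_smul,
      show (r • a : M C F) = ((⟨r, hr0⟩ : 𝒜 k) : A) • a from rfl, cf_smul_add, rM_smul, ← hct, ← e, smul_smul]
    congr 1
    ring

variable (C F)

/-- The comparison map. -/
def toF : T C F ⟶ F where
  val := PresheafOfModules.homMk
    { app := fun V => AddCommGrpCat.ofHom (AddMonoidHom.mk'
        (fun x => (exists_rel (C := C) (F := F) (V := V.unop) x).choose) fun x x' =>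
          rel_unique (exists_rel _).choose_spec (rel_add (exists_rel x).choose_spec (exists_rel x').choose_spec))
      naturality := fun V W i => by
        ext x
        exact rel_unique (exists_rel (rM i.unop.le x)).choose_spec (rel_res i.unop.le (exists_rel x).choose_spec) }
    fun V r x => rel_unique (exists_rel _).choose_spec (rel_smul r (exists_rel x).choose_spec)

variable {C F}

theorem rel_toF {V : (Proj 𝒜).Opens} (x : Γ(T C F, V)) : Rel x ((toF C F).app V x) :=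
  (exists_rel x).choose_spec

theorem toF_injective (hF : Coh.IsQCoh F) (V : (Proj 𝒜).Opens) : Function.Injective ((toF C F).app V) := by
  refine (injective_iff_map_eq_zero _).2 fun sec h0 => ?_
  refine ext_val 𝒜 (deg C F) fun y => ?_
  obtain ⟨i, W, hW, hi, p, a, t, hy, ha, hr⟩ := exists_repr_chart sec y
  obtain ⟨g, e, he, hg, hyg, hgW⟩ := GrModX.exists_basicOpen_le 𝒜 hy
  have h1 := rel_toF sec i W hW hi p a t ha hr
  rw [h0, rM_zero, smul_zero] at h1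
  have hb : (Proj 𝒜).basicOpen (C.r i e ⟨g, hg⟩) ≤ W := fun z hz =>
    hgW ((mem_basicOpen_rat (C.hf i) e _ z).1 hz).2
  obtain ⟨N, hN⟩ := exists_pow_smul_eq_zero hF (Proj.isAffineOpen_basicOpen 𝒜 _ (C.hf i) one_pos)
    (C.r i e ⟨g, hg⟩) (cf C F p i a) (by
      show rM ((Proj 𝒜).basicOpen_le _) _ = 0
      rw [← rM_rM (F := F) hi hb, ← h1, rM_zero])
  have hgN : g ^ N ∈ 𝒜 (N * e) := GrModX.pow_mem_deg 𝒜 hg N
  have hr' : C.r i (N * e) ⟨g ^ N, hgN⟩ = C.r i e ⟨g, hg⟩ ^ N := oext fun z => by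
    rw [GrModX.oval_pow, HomogeneousLocalization.val_pow, oval_rat, oval_rat, Localization.mk_pow]
    congr 1
    exact Subtype.ext (by simp [← pow_mul, mul_comm e N])
  have hmem : g ^ N • a ∈ deg C F (N * e + p) := SetLike.GradedSMul.smul_mem hgN ha
  obtain ⟨L, hL⟩ := exists_pow_smul_eq_zero_of_cf hF hmem i (by
      rw [show g ^ N • a = ((⟨g ^ N, hgN⟩ : 𝒜 (N * e)) : A) • a from rfl, cf_smul_add, hr', hN])
  erw [hr.2 ⟨y.1, hy⟩]
  refine Eq.trans ?_ (show (0 : GrMod.LocMod 𝒜 (M := M C F) y.1) = _ from rfl)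
  exact (mk_eq_zero_iff 𝒜 y.1 _ _).2 ⟨C.f i ^ L * g ^ N,
    fun hh => (y.1.isPrime.mem_or_mem hh).elim (pow_notMem y.1.isPrime (hi hy) L) (pow_notMem y.1.isPrime hyg N),
    by rw [mul_smul]; exact hL⟩

theorem toF_surjective (hF : Coh.IsQCoh F) (V : (Proj 𝒜).Opens) : Function.Surjective ((toF C F).app V) := by
  intro w
  have hloc : ∀ y : V, ∃ (W : (Proj 𝒜).Opens) (hW : W ≤ V) (s : Γ(T C F, W)),
      y.1 ∈ W ∧ (toF C F).app W s = rM hW w := by
    intro y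
    obtain ⟨i, hi⟩ := C.cover y.1
    obtain ⟨g, e, he, hg, hyg, hgV⟩ := GrModX.exists_basicOpen_le 𝒜 (V := V ⊓ C.U i) (y := y.1) ⟨y.2, hi⟩
    let c := C.r i e ⟨g, hg⟩
    have hb : (Proj 𝒜).basicOpen c ≤ V := fun z hz => (hgV ((mem_basicOpen_rat (C.hf i) e _ z).1 hz).2).1
    obtain ⟨N, t, ht⟩ := exists_pow_smul_eq_map hF (Proj.isAffineOpen_basicOpen 𝒜 _ (C.hf i) one_pos) c (rM hb w)
    obtain ⟨n, m, hm, hmt⟩ := exists_cf_eq hF i t
    have hi' : (Proj 𝒜).basicOpen c ≤ C.U i := (Proj 𝒜).basicOpen_le c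
    have hden : C.f i ^ n * g ^ N ∈ 𝒜 (n + N * e) :=
      SetLike.mul_mem_graded (by simpa using SetLike.pow_mem_graded n (C.hf i)) (GrModX.pow_mem_deg 𝒜 hg N)
    have hnum : C.f i ^ (N * e) • m ∈ deg C F (n + N * e) := by
      rw [Nat.add_comm n]
      exact SetLike.GradedSMul.smul_mem (by simpa using SetLike.pow_mem_graded (N * e) (C.hf i)) hm
    have hnin : ∀ z : ((Proj 𝒜).basicOpen c : (Proj 𝒜).Opens), C.f i ^ n * g ^ N ∉ z.1.asHomogeneousIdeal :=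
      fun z hh => (z.1.isPrime.mem_or_mem hh).elim
        (pow_notMem z.1.isPrime ((mem_basicOpen_rat (C.hf i) e _ z.1).1 z.2).1 n)
        (pow_notMem z.1.isPrime ((mem_basicOpen_rat (C.hf i) e _ z.1).1 z.2).2 N)
    let s := GrModX.fracSect 𝒜 (deg C F) 0 ((Proj 𝒜).basicOpen c) hden hnin (m := C.f i ^ (N * e) • m)
      ((deg_of_mem hnum).congr (by simp))
    refine ⟨_, hb, s, (mem_basicOpen_rat (C.hf i) e _ y.1).2 ⟨hi, hyg⟩, rel_unique (rel_toF s) ?_⟩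
    refine rel_of_locally fun z => ⟨i, _, le_rfl, hi', n + N * e, _, ⟨_, hden⟩, z.2, hnum,
      ⟨fun z' => hnin z', fun _ => rfl⟩, ?_⟩
    have hfN : C.f i ^ (N * e) ∈ 𝒜 (N * e) := by simpa using SetLike.pow_mem_graded (N * e) (C.hf i)
    have e1 : rO hi' (C.r i (n + N * e) ⟨_, hden⟩) = rO hi' c ^ N := oext fun z' => by
      rw [GrModX.oval_pow, HomogeneousLocalization.val_pow, oval_rO_rat, oval_rO_rat, Localization.mk_pow,
        Localization.mk_eq_mk_iff, Localization.r_iff_exists]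
      refine ⟨1, ?_⟩
      simp only [OneMemClass.coe_one, SubmonoidClass.coe_pow]
      ring
    have e2 : C.r i (N * e) ⟨_, hfN⟩ = 1 := oext fun z' => by
      rw [oval_one, HomogeneousLocalization.val_one, oval_rat, Localization.mk_eq_mk']
      exact IsLocalization.mk'_self _ _
    rw [rM_self, e1, show C.f i ^ (N * e) • m = ((⟨_, hfN⟩ : 𝒜 (N * e)) : A) • m from rfl, Nat.add_comm n,
      cf_smul_add, e2, one_smul, hmt]
    exact ht.symm
  choose W hW s hy hs using hloc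
  obtain ⟨S, hS, -⟩ := TopCat.Sheaf.existsUnique_gluing' ⟨(T C F).presheaf, (T C F).isSheaf⟩ W V
    (fun y => homOfLE (hW y)) (fun z hz => Opens.mem_iSup.2 ⟨⟨z, hz⟩, hy _⟩) s fun y z => by
      show rM inf_le_left (s y) = rM inf_le_right (s z)
      refine toF_injective hF _ ?_
      refine ((map_app_comm (toF C F) (homOfLE inf_le_left) (s y)).trans ?_).trans
        (map_app_comm (toF C F) (homOfLE inf_le_right) (s z)).symm
      rw [hs y, hs z]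
      show rM _ (rM _ w) = rM _ (rM _ w)
      rw [rM_rM, rM_rM]
  refine ⟨S, eq_of_locally _ _ fun y => ⟨W y, hW y, hy y, ?_⟩⟩
  rw [show rM (hW y) ((toF C F).app V S) = (toF C F).app (W y) (rM (hW y) S) from (map_app_comm _ _ _).symm,
    show rM (hW y) S = s y from hS y, hs y]

theorem isIso_toF (hF : Coh.IsQCoh F) : IsIso (toF C F) := by
  refine Scheme.Modules.Hom.isIso_iff_isIso_app.2 fun V => ?_
  exact (ConcreteCategory.isIso_iff_bijective _).2 ⟨toF_injective hF V, toF_surjective hF V⟩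

end Groth.Agent.GammaStar
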